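import Cfsg.Agent.Lib.Cert.Mod
import Cfsg.Agent.Lib.PermCert.PL

set_option autoImplicit false
set_option maxRecDepth 100000

namespace Cfsg.Agent.Ct.N11

open Cfsg.Agent.PC

open Cfsg.Agent.Fi Cfsg.Agent.Ct
namespace L1
def t0x : TN := (TN.leaf (nat_lit 0x819bf811bd809a322101))
def t1x : TN := (TN.leaf (nat_lit 0xc1704719cf2220166d02))
def t2x : TN := (TN.leaf (nat_lit 0x81205b7ed68048864903))
def t3x : TN := (TN.leaf (nat_lit 0x22b0322201add066d504))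
def t4x : TN := (TN.leaf (nat_lit 0xc0c8a80488ab9076b105))
def tt : TN := (TN.node (TN.node (TN.node (TN.node t0x (TN.leaf (nat_lit 0))) (TN.node t4x (TN.leaf (nat_lit 0)))) (TN.node (TN.node t2x (TN.leaf (nat_lit 0))) (TN.node (TN.leaf (nat_lit 0)) (TN.leaf (nat_lit 0))))) (TN.node (TN.node (TN.node t1x (TN.leaf (nat_lit 0))) (TN.node (TN.leaf (nat_lit 0)) (TN.leaf (nat_lit 0)))) (TN.node (TN.node t3x (TN.leaf (nat_lit 0))) (TN.node (TN.leaf (nat_lit 0)) (TN.leaf (nat_lit 0))))))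
noncomputable def T (j c : ℕ) : ℕ := getL tt (nat_lit 10) (nat_lit 7) j c
noncomputable def E (j c : ℕ) : ℕ := getL tt (nat_lit 10) (nat_lit 1023) j c
theorem T_eq (j c : ℕ) : T j c = E j c % 8 :=
  getL_mod (a := 3) (b := 10) _ _ (by norm_num) (by norm_num) (by norm_num) (by norm_num) j c
def rels : List (List ℕ) := [[nat_lit 0, nat_lit 1, nat_lit 1], [nat_lit 0, nat_lit 3, nat_lit 3], [nat_lit 3, nat_lit 1, nat_lit 3, nat_lit 2]]
def inv (i : ℕ) : ℕ := Nat.land (Nat.shiftRight (nat_lit 178256) (Nat.mul (nat_lit 3) i)) (nat_lit 7)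
def X_t : TN := (TN.leaf (nat_lit 0))
noncomputable def X (i : ℕ) : ℕ := get9 X_t (nat_lit 1) (nat_lit 1) i
def Jp_t : TN := (TN.leaf (nat_lit 0))
noncomputable def Jp (i : ℕ) : ℕ := get9 Jp_t (nat_lit 1) (nat_lit 1) i
def J_t : TN := (TN.leaf (nat_lit 0))
noncomputable def J (k : ℕ) : ℕ := getV J_t Jp k
def Pa_t : TN := (TN.leaf (nat_lit 0x91c91068440a090000))
noncomputable def Pa (i : ℕ) : ℕ := get9 Pa_t (nat_lit 9) (nat_lit 511) i
def W_t : TL := (TL.node (TL.node (TL.node (TL.node (TL.leaf [nat_lit 5, nat_lit 2, nat_lit 0, nat_lit 1]) (TL.leaf [nat_lit 4099, nat_lit 2, nat_lit 3, nat_lit 2, nat_lit 3])) (TL.leaf [nat_lit 2052, nat_lit 3, nat_lit 0, nat_lit 4])) (TL.node (TL.leaf [nat_lit 6, nat_lit 0, nat_lit 2, nat_lit 2]) (TL.leaf [nat_lit 4103, nat_lit 1, nat_lit 3, nat_lit 1, nat_lit 3]))) (TL.node (TL.node (TL.node (TL.leaf [nat_lit 4, nat_lit 1, nat_lit 0, nat_lit 2]) (TL.leaf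 [nat_lit 4098, nat_lit 2, nat_lit 4, nat_lit 2, nat_lit 4])) (TL.leaf [nat_lit 2054, nat_lit 0, nat_lit 4, nat_lit 4])) (TL.node (TL.leaf [nat_lit 2053, nat_lit 4, nat_lit 0, nat_lit 3]) (TL.leaf [nat_lit 4102, nat_lit 1, nat_lit 4, nat_lit 1, nat_lit 4]))))
noncomputable def W (i : ℕ) : List ℕ := TL.get W_t i
def WA_t : TL := (TL.leaf [nat_lit 0])
noncomputable def WA (i : ℕ) : List ℕ := TL.get WA_t i
noncomputable def row : ℕ → ℕ := hRow (nat_lit 7) (nat_lit 5) (nat_lit 0) (nat_lit 8) (nat_lit 16) (nat_lit 128) (nat_lit 128) (nat_lit 128) (nat_lit 0) E X Pa inv (wfun (nat_lit 10) W_t)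
noncomputable def aux : ℕ → ℕ := hAux (nat_lit 8) (nat_lit 5) (nat_lit 8) (nat_lit 128) (nat_lit 128) (nat_lit 2) (nat_lit 2) (nat_lit 128) (nat_lit 0) E X J Pa inv WA_t.get
theorem r0 : Nat.beq (rng row (nat_lit 0) (nat_lit 8)) (nat_lit 0) = true := by decide +kernel
theorem rows : ∀ i < 8, row i = 0 := by
  have h := zero_lt_zero row
  have h := zero_lt_add (a := (nat_lit 0)) (n := (nat_lit 8)) (b := (nat_lit 8)) h r0 rfl
  exact h
theorem auxs : ∀ i < 0, aux i = 0 := by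
  have h := zero_lt_zero aux
  exact h
theorem closes.{u} : ClosesT.{u} inv rels 5 0 8 T :=
  hc_closes (N1 := (nat_lit 7)) rfl T_eq (by decide +kernel) rows auxs
theorem T_inv : ∀ c < 8, ∀ j < 5, T j c < 8 ∧ T (inv j) (T j c) = c := 
  hc_inv (inv := inv) (N1 := (nat_lit 7)) rfl T_eq rows
end L1

namespace L2
def t0x : TN := (TN.leaf (nat_lit 0x80733c2014cec8033220844804210))
def t1x : TN := (TN.leaf (nat_lit 0xc066029a1cd3021140118d0806210))
def t2x : TN := (TN.leaf (nat_lit 0x8054032b6158e802108988c808400))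
def t3x : TN := (TN.leaf (nat_lit 0x2136020845004a68203999880a210))
def t4x : TN := (TN.leaf (nat_lit 0xc04109a008422a57204195480c400))
def t5x : TN := (TN.leaf (nat_lit 0x1004703339d006ef835a9a88420401))
def tt : TN := (TN.node (TN.node (TN.node (TN.node t0x (TN.leaf (nat_lit 0))) (TN.node t4x (TN.leaf (nat_lit 0)))) (TN.node (TN.node t2x (TN.leaf (nat_lit 0))) (TN.node (TN.leaf (nat_lit 0)) (TN.leaf (nat_lit 0))))) (TN.node (TN.node (TN.node t1x (TN.leaf (nat_lit 0))) (TN.node t5x (TN.leaf (nat_lit 0)))) (TN.node (TN.node t3x (TN.leaf (nat_lit 0))) (TN.node (TN.leaf (nat_lit 0)) (TN.leaf (nat_lit 0))))))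
noncomputable def T (j c : ℕ) : ℕ := getL tt (nat_lit 13) (nat_lit 15) j c
noncomputable def E (j c : ℕ) : ℕ := getL tt (nat_lit 13) (nat_lit 8191) j c
theorem T_eq (j c : ℕ) : T j c = E j c % 16 :=
  getL_mod (a := 4) (b := 13) _ _ (by norm_num) (by norm_num) (by norm_num) (by norm_num) j c
def rels : List (List ℕ) := [[nat_lit 0, nat_lit 1, nat_lit 1], [nat_lit 0, nat_lit 3, nat_lit 3], [nat_lit 3, nat_lit 1, nat_lit 3, nat_lit 2], [nat_lit 0, nat_lit 5, nat_lit 0, nat_lit 5, nat_lit 0, nat_lit 5], [nat_lit 5, nat_lit 1, nat_lit 5, nat_lit 4, nat_lit 5, nat_lit 3, nat_lit 1]]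
def inv (i : ℕ) : ℕ := Nat.land (Nat.shiftRight (nat_lit 0x1ab850) (Nat.mul (nat_lit 3) i)) (nat_lit 7)
def X_t : TN := (TN.leaf (nat_lit 0))
noncomputable def X (i : ℕ) : ℕ := get9 X_t (nat_lit 1) (nat_lit 1) i
def Jp_t : TN := (TN.leaf (nat_lit 0))
noncomputable def Jp (i : ℕ) : ℕ := get9 Jp_t (nat_lit 1) (nat_lit 1) i
def J_t : TN := (TN.leaf (nat_lit 0))
noncomputable def J (k : ℕ) : ℕ := getV J_t Jp k
def Pa_t : TN := (TN.leaf (nat_lit 0x333cd2138521184a1041400))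
noncomputable def Pa (i : ℕ) : ℕ := get9 Pa_t (nat_lit 10) (nat_lit 1023) i
def W_t : TL := (TL.node (TL.node (TL.node (TL.node (TL.leaf [nat_lit 5, nat_lit 2, nat_lit 0, nat_lit 1]) (TL.leaf [nat_lit 6147, nat_lit 5, nat_lit 0, nat_lit 5, nat_lit 0, nat_lit 5, nat_lit 0])) (TL.node (TL.leaf [nat_lit 2052, nat_lit 3, nat_lit 0, nat_lit 4]) (TL.leaf [nat_lit 8198, nat_lit 5, nat_lit 3, nat_lit 5, nat_lit 2, nat_lit 5, nat_lit 2, nat_lit 4]))) (TL.node (TL.node (TL.leaf [nat_lit 6, nat_lit 0, nat_lit 2, nat_lit 2]) (TL.leaf [nat_lit 4099, nat_lit 2, nat_lit 3, nat_lit 2, nat_lit 3])) (TL.leaf [nat_lit 4103, nat_lit 1, nat_lit 3, nat_lit 1, nat_lit 3]))) (TL.node (TL.node (TL.node (TL.leaf [nat_lit 4, nat_lit 1, nat_lit 0, nat_lit 2]) (TL.leaf [nat_lit 8202, nat_lit 5, nat_lit 2, nat_lit 5, nat_lit 2, nat_lit 4, nat_lit 5, nat_lit 3])) (TL.node (TL.leaf [nat_lit 2054, nat_lit 0, nat_lit 4,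 nat_lit 4]) (TL.leaf [nat_lit 8201, nat_lit 5, nat_lit 3, nat_lit 1, nat_lit 5, nat_lit 1, nat_lit 5, nat_lit 4]))) (TL.node (TL.node (TL.leaf [nat_lit 2053, nat_lit 4, nat_lit 0, nat_lit 3]) (TL.leaf [nat_lit 4098, nat_lit 2, nat_lit 4, nat_lit 2, nat_lit 4])) (TL.leaf [nat_lit 4102, nat_lit 1, nat_lit 4, nat_lit 1, nat_lit 4]))))
noncomputable def W (i : ℕ) : List ℕ := TL.get W_t i
def WA_t : TL := (TL.leaf [nat_lit 0])
noncomputable def WA (i : ℕ) : List ℕ := TL.get WA_t i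
noncomputable def row : ℕ → ℕ := hRow (nat_lit 8) (nat_lit 6) (nat_lit 5) (nat_lit 16) (nat_lit 32) (nat_lit 512) (nat_lit 256) (nat_lit 256) (nat_lit 0) E X Pa inv (wfun (nat_lit 14) W_t)
noncomputable def aux : ℕ → ℕ := hAux (nat_lit 9) (nat_lit 6) (nat_lit 16) (nat_lit 512) (nat_lit 256) (nat_lit 2) (nat_lit 2) (nat_lit 256) (nat_lit 0) E X J Pa inv WA_t.get
theorem r0 : Nat.beq (rng row (nat_lit 0) (nat_lit 9)) (nat_lit 0) = true := by decide +kernel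
theorem rows : ∀ i < 9, row i = 0 := by
  have h := zero_lt_zero row
  have h := zero_lt_add (a := (nat_lit 0)) (n := (nat_lit 9)) (b := (nat_lit 9)) h r0 rfl
  exact h
theorem auxs : ∀ i < 0, aux i = 0 := by
  have h := zero_lt_zero aux
  exact h
theorem closes.{u} : ClosesT.{u} inv rels 6 5 9 T :=
  hc_closes (N1 := (nat_lit 8)) rfl T_eq (by decide +kernel) rows auxs
theorem T_inv : ∀ c < 9, ∀ j < 6, T j c < 9 ∧ T (inv j) (T j c) = c := 
  hc_inv (inv := inv) (N1 := (nat_lit 8)) rfl T_eq rows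
end L2

namespace L3
def t0x : TN := (TN.leaf (nat_lit 0x101067947ba014cec8033220844804210))
def t1x : TN := (TN.leaf (nat_lit 0x180cc059039a60d5221140118d0806210))
def t2x : TN := (TN.leaf (nat_lit 0x100a8068a3aba55b0802108988c808400))
def t3x : TN := (TN.leaf (nat_lit 0x426c049ab8845004a69204199880a210))
def t4x : TN := (TN.leaf (nat_lit 0x1808213a03a008422a58204995480c400))
def t5x : TN := (TN.leaf (nat_lit 0x200b2031092811d1291689c101cd02210))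
def t6x : TN := (TN.leaf (nat_lit 0x1c0c803693b2e50086b53642c08420401))
def tt : TN := (TN.node (TN.node (TN.node (TN.node t0x (TN.leaf (nat_lit 0))) (TN.node t4x (TN.leaf (nat_lit 0)))) (TN.node (TN.node t2x (TN.leaf (nat_lit 0))) (TN.node t6x (TN.leaf (nat_lit 0))))) (TN.node (TN.node (TN.node t1x (TN.leaf (nat_lit 0))) (TN.node t5x (TN.leaf (nat_lit 0)))) (TN.node (TN.node t3x (TN.leaf (nat_lit 0))) (TN.node (TN.leaf (nat_lit 0)) (TN.leaf (nat_lit 0))))))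
noncomputable def T (j c : ℕ) : ℕ := getL tt (nat_lit 13) (nat_lit 15) j c
noncomputable def E (j c : ℕ) : ℕ := getL tt (nat_lit 13) (nat_lit 8191) j c
theorem T_eq (j c : ℕ) : T j c = E j c % 16 :=
  getL_mod (a := 4) (b := 13) _ _ (by norm_num) (by norm_num) (by norm_num) (by norm_num) j c
def rels : List (List ℕ) := [[nat_lit 0, nat_lit 1, nat_lit 1], [nat_lit 0, nat_lit 3, nat_lit 3], [nat_lit 3, nat_lit 1, nat_lit 3, nat_lit 2], [nat_lit 0, nat_lit 5, nat_lit 0, nat_lit 5, nat_lit 0, nat_lit 5], [nat_lit 5, nat_lit 1, nat_lit 5, nat_lit 4, nat_lit 5, nat_lit 3, nat_lit 1], [nat_lit 5, nat_lit 6, nat_lit 5, nat_lit 6], [nat_lit 3, nat_lit 6, nat_lit 5, nat_lit 3, nat_lit 6, nat_lit 5, nat_lit 3, nat_lit 6, nat_lit 5], [nat_lit 6, nat_lit 1, nat_lit 6, nat_lit 4, nat_lit 2, nat_lit 6, nat_lit 3]]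
def inv (i : ℕ) : ℕ := Nat.land (Nat.shiftRight (nat_lit 0xfab850) (Nat.mul (nat_lit 3) i)) (nat_lit 7)
def X_t : TN := (TN.leaf (nat_lit 0))
noncomputable def X (i : ℕ) : ℕ := get9 X_t (nat_lit 1) (nat_lit 1) i
def Jp_t : TN := (TN.leaf (nat_lit 0))
noncomputable def Jp (i : ℕ) : ℕ := get9 Jp_t (nat_lit 1) (nat_lit 1) i
def J_t : TN := (TN.leaf (nat_lit 0))
noncomputable def J (k : ℕ) : ℕ := getV J_t Jp k
def Pa_t : TN := (TN.leaf (nat_lit 0xccf34c96138521184a1041800))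
noncomputable def Pa (i : ℕ) : ℕ := get9 Pa_t (nat_lit 10) (nat_lit 1023) i
def W_t : TL := (TL.node (TL.node (TL.node (TL.node (TL.node (TL.leaf [nat_lit 5, nat_lit 2, nat_lit 0, nat_lit 1]) (TL.leaf [nat_lit 10243, nat_lit 6, nat_lit 5, nat_lit 6, nat_lit 5])) (TL.leaf [nat_lit 4102, nat_lit 1, nat_lit 4, nat_lit 1, nat_lit 4])) (TL.node (TL.leaf [nat_lit 2052, nat_lit 3, nat_lit 0, nat_lit 4]) (TL.leaf [nat_lit 4098, nat_lit 2, nat_lit 4, nat_lit 2, nat_lit 4]))) (TL.node (TL.node (TL.node (TL.leaf [nat_lit 6, nat_lit 0, nat_lit 2, nat_lit 2]) (TL.leaf [nat_lit 8195, nat_lit 2, nat_lit 5, nat_lit 4, nat_lit 5, nat_lit 3, nat_lit 1, nat_lit 5])) (TL.leaf [nat_lit 14346, nat_lit 6, nat_lit 2, nat_lit 6, nat_lit 4, nat_lit 6, nat_lit 1, nat_lit 3])) (TL.node (TL.leaf [nat_lit 10241, nat_lit 5, nat_lit 6, nat_lit 5, nat_lit 6]) (TL.leaf [nat_lit 14350, nat_lit 6, nat_lit 4, nat_lit 6, nat_lit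 1, nat_lit 3, nat_lit 6, nat_lit 2])))) (TL.node (TL.node (TL.node (TL.node (TL.leaf [nat_lit 4, nat_lit 1, nat_lit 0, nat_lit 2]) (TL.leaf [nat_lit 6147, nat_lit 5, nat_lit 0, nat_lit 5, nat_lit 0, nat_lit 5, nat_lit 0])) (TL.leaf [nat_lit 14337, nat_lit 6, nat_lit 1, nat_lit 6, nat_lit 4, nat_lit 2, nat_lit 6, nat_lit 3])) (TL.node (TL.leaf [nat_lit 2054, nat_lit 0, nat_lit 4, nat_lit 4]) (TL.leaf [nat_lit 6145, nat_lit 0, nat_lit 5, nat_lit 0, nat_lit 5, nat_lit 0, nat_lit 5]))) (TL.node (TL.node (TL.node (TL.leaf [nat_lit 2053, nat_lit 4, nat_lit 0, nat_lit 3]) (TL.leaf [nat_lit 8196, nat_lit 3, nat_lit 5, nat_lit 3, nat_lit 5, nat_lit 2, nat_lit 5, nat_lit 2])) (TL.leaf [nat_lit 4099, nat_lit 2, nat_lit 3, nat_lit 2, nat_lit 3])) (TL.node (TL.leaf [nat_lit 4103, nat_lit 1, nat_lit 3, nat_lit 1, nat_lit 3]) (TL.leaf [nat_lit 12290, nat_lit 5, nat_lit 6, nat_lit 4, nat_lit 5, nat_lit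 6, nat_lit 4, nat_lit 5, nat_lit 6, nat_lit 4])))))
noncomputable def W (i : ℕ) : List ℕ := TL.get W_t i
def WA_t : TL := (TL.leaf [nat_lit 0])
noncomputable def WA (i : ℕ) : List ℕ := TL.get WA_t i
noncomputable def row : ℕ → ℕ := hRow (nat_lit 9) (nat_lit 7) (nat_lit 6) (nat_lit 16) (nat_lit 32) (nat_lit 512) (nat_lit 256) (nat_lit 256) (nat_lit 0) E X Pa inv (wfun (nat_lit 20) W_t)
noncomputable def aux : ℕ → ℕ := hAux (nat_lit 10) (nat_lit 7) (nat_lit 16) (nat_lit 512) (nat_lit 256) (nat_lit 2) (nat_lit 2) (nat_lit 256) (nat_lit 0) E X J Pa inv WA_t.get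
theorem r0 : Nat.beq (rng row (nat_lit 0) (nat_lit 10)) (nat_lit 0) = true := by decide +kernel
theorem rows : ∀ i < 10, row i = 0 := by
  have h := zero_lt_zero row
  have h := zero_lt_add (a := (nat_lit 0)) (n := (nat_lit 10)) (b := (nat_lit 10)) h r0 rfl
  exact h
theorem auxs : ∀ i < 0, aux i = 0 := by
  have h := zero_lt_zero aux
  exact h
theorem closes.{u} : ClosesT.{u} inv rels 7 6 10 T :=
  hc_closes (N1 := (nat_lit 9)) rfl T_eq (by decide +kernel) rows auxs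
theorem T_inv : ∀ c < 10, ∀ j < 7, T j c < 10 ∧ T (inv j) (T j c) = c := 
  hc_inv (inv := inv) (N1 := (nat_lit 9)) rfl T_eq rows
end L3

namespace L4
def t0x : TN := (TN.leaf (nat_lit 0x194a766580751e100531d900331104112008410))
def t1x : TN := (TN.leaf (nat_lit 0x200a6025806401600732204114008c34200c410))
def t2x : TN := (TN.leaf (nat_lit 0x1d7a54a500576994f832dd0021044c232010800))
def t3x : TN := (TN.leaf (nat_lit 0x1d8a65a441365504114009468331cc662014410))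
def t4x : TN := (TN.leaf (nat_lit 0x200a7025804400d0021045c072020c552018800))
def t5x : TN := (TN.leaf (nat_lit 0x41664e5803104480a54150025460cd4201c410))
def t6x : TN := (TN.leaf (nat_lit 0x28ea1057403600a5b62025001c7e14e73290410))
def t7x : TN := (TN.leaf (nat_lit 0x29ead767005b012403b2629d78718c921040801))
def tt : TN := (TN.node (TN.node (TN.node (TN.node t0x (TN.leaf (nat_lit 0))) (TN.node t4x (TN.leaf (nat_lit 0)))) (TN.node (TN.node t2x (TN.leaf (nat_lit 0))) (TN.node t6x (TN.leaf (nat_lit 0))))) (TN.node (TN.node (TN.node t1x (TN.leaf (nat_lit 0))) (TN.node t5x (TN.leaf (nat_lit 0)))) (TN.node (TN.node t3x (TN.leaf (nat_lit 0))) (TN.node t7x (TN.leaf (nat_lit 0))))))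
noncomputable def T (j c : ℕ) : ℕ := getL tt (nat_lit 14) (nat_lit 15) j c
noncomputable def E (j c : ℕ) : ℕ := getL tt (nat_lit 14) (nat_lit 16383) j c
theorem T_eq (j c : ℕ) : T j c = E j c % 16 :=
  getL_mod (a := 4) (b := 14) _ _ (by norm_num) (by norm_num) (by norm_num) (by norm_num) j c
def rels : List (List ℕ) := [[nat_lit 0, nat_lit 1, nat_lit 1], [nat_lit 0, nat_lit 3, nat_lit 3], [nat_lit 3, nat_lit 1, nat_lit 3, nat_lit 2], [nat_lit 0, nat_lit 5, nat_lit 0, nat_lit 5, nat_lit 0, nat_lit 5], [nat_lit 5, nat_lit 1, nat_lit 5, nat_lit 4, nat_lit 5, nat_lit 3, nat_lit 1], [nat_lit 5, nat_lit 6, nat_lit 5, nat_lit 6], [nat_lit 3, nat_lit 6, nat_lit 5, nat_lit 3, nat_lit 6, nat_lit 5, nat_lit 3, nat_lit 6, nat_lit 5], [nat_lit 6, nat_lit 1, nat_lit 6, nat_lit 4, nat_lit 2, nat_lit 6, nat_lit 3], [nat_lit 0, nat_lit 7, nat_lit 0, nat_lit 7, nat_lit 0, nat_lit 7], [nat_lit 1, nat_lit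 7, nat_lit 6, nat_lit 1, nat_lit 7, nat_lit 6], [nat_lit 7, nat_lit 0, nat_lit 5, nat_lit 1, nat_lit 7, nat_lit 3, nat_lit 1, nat_lit 5, nat_lit 2], [nat_lit 7, nat_lit 1, nat_lit 3, nat_lit 5, nat_lit 7, nat_lit 3, nat_lit 2, nat_lit 5]]
def inv (i : ℕ) : ℕ := Nat.land (Nat.shiftRight (nat_lit 0x876534120) (Nat.mul (nat_lit 4) i)) (nat_lit 15)
def X_t : TN := (TN.leaf (nat_lit 0))
noncomputable def X (i : ℕ) : ℕ := get9 X_t (nat_lit 1) (nat_lit 1) i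
def Jp_t : TN := (TN.leaf (nat_lit 0))
noncomputable def Jp (i : ℕ) : ℕ := get9 Jp_t (nat_lit 1) (nat_lit 1) i
def J_t : TN := (TN.leaf (nat_lit 0))
noncomputable def J (k : ℕ) : ℕ := getV J_t Jp k
def Pa_t : TN := (TN.leaf (nat_lit 0x365d5b33856138521184a1041c00))
noncomputable def Pa (i : ℕ) : ℕ := get9 Pa_t (nat_lit 10) (nat_lit 1023) i
def W_t : TL := (TL.node (TL.node (TL.node (TL.node (TL.node (TL.leaf [nat_lit 5, nat_lit 2, nat_lit 0, nat_lit 1]) (TL.leaf [nat_lit 14339, nat_lit 2, nat_lit 6, nat_lit 4, nat_lit 2, nat_lit 6, nat_lit 3, nat_lit 6])) (TL.node (TL.leaf [nat_lit 18434, nat_lit 6, nat_lit 7, nat_lit 2, nat_lit 6, nat_lit 7, nat_lit 2]) (TL.leaf [nat_lit 4099, nat_lit 2, nat_lit 3, nat_lit 2, nat_lit 3]))) (TL.node (TL.node (TL.leaf [nat_lit 2052, nat_lit 3, nat_lit 0, nat_lit 4]) (TL.leaf [nat_lit 14343, nat_lit 3, nat_lit 2, nat_lit 6, nat_lit 3, nat_lit 6, nat_lit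 1, nat_lit 6])) (TL.node (TL.leaf [nat_lit 10243, nat_lit 6, nat_lit 5, nat_lit 6, nat_lit 5]) (TL.leaf [nat_lit 22537, nat_lit 7, nat_lit 3, nat_lit 2, nat_lit 5, nat_lit 7, nat_lit 1, nat_lit 3, nat_lit 5])))) (TL.node (TL.node (TL.node (TL.leaf [nat_lit 6, nat_lit 0, nat_lit 2, nat_lit 2]) (TL.leaf [nat_lit 6145, nat_lit 0, nat_lit 5, nat_lit 0, nat_lit 5, nat_lit 0, nat_lit 5])) (TL.node (TL.leaf [nat_lit 22540, nat_lit 3, nat_lit 2, nat_lit 7, nat_lit 5, nat_lit 1, nat_lit 4, nat_lit 7, nat_lit 5]) (TL.leaf [nat_lit 22544, nat_lit 7, nat_lit 5, nat_lit 1, nat_lit 4, nat_lit 7, nat_lit 5, nat_lit 4, nat_lit 2]))) (TL.node (TL.node (TL.leaf [nat_lit 4102, nat_lit 1, nat_lit 4, nat_lit 1, nat_lit 4]) (TL.leaf [nat_lit 8199, nat_lit 3, nat_lit 5, nat_lit 3, nat_lit 1, nat_lit 5, nat_lit 1, nat_lit 5])) (TL.leaf [nat_lit 8201, nat_lit 5, nat_lit 3, nat_lit 1, nat_lit 5, nat_lit 1, nat_lit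 5, nat_lit 4])))) (TL.node (TL.node (TL.node (TL.node (TL.leaf [nat_lit 4, nat_lit 1, nat_lit 0, nat_lit 2]) (TL.leaf [nat_lit 10241, nat_lit 5, nat_lit 6, nat_lit 5, nat_lit 6])) (TL.node (TL.leaf [nat_lit 22532, nat_lit 2, nat_lit 4, nat_lit 7, nat_lit 5, nat_lit 4, nat_lit 2, nat_lit 7, nat_lit 5]) (TL.leaf [nat_lit 14340, nat_lit 6, nat_lit 1, nat_lit 3, nat_lit 6, nat_lit 2, nat_lit 6, nat_lit 4]))) (TL.node (TL.node (TL.leaf [nat_lit 2054, nat_lit 0, nat_lit 4, nat_lit 4]) (TL.leaf [nat_lit 8195, nat_lit 2, nat_lit 5, nat_lit 4, nat_lit 5, nat_lit 3, nat_lit 1, nat_lit 5])) (TL.node (TL.leaf [nat_lit 4098, nat_lit 2, nat_lit 4, nat_lit 2, nat_lit 4]) (TL.leaf [nat_lit 18437, nat_lit 6, nat_lit 1, nat_lit 7, nat_lit 6, nat_lit 1, nat_lit 7])))) (TL.node (TL.node (TL.node (TL.leaf [nat_lit 2053, nat_lit 4, nat_lit 0, nat_lit 3]) (TL.leaf [nat_lit 8196, nat_lit 3, nat_lit 5, nat_lit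 3, nat_lit 5, nat_lit 2, nat_lit 5, nat_lit 2])) (TL.node (TL.leaf [nat_lit 20494, nat_lit 5, nat_lit 0, nat_lit 7, nat_lit 1, nat_lit 5, nat_lit 2, nat_lit 4, nat_lit 7, nat_lit 2]) (TL.leaf [nat_lit 18435, nat_lit 7, nat_lit 6, nat_lit 1, nat_lit 7, nat_lit 6, nat_lit 1]))) (TL.node (TL.node (TL.leaf [nat_lit 16387, nat_lit 7, nat_lit 0, nat_lit 7, nat_lit 0, nat_lit 7, nat_lit 0]) (TL.leaf [nat_lit 2049, nat_lit 0, nat_lit 3, nat_lit 3])) (TL.leaf [nat_lit 8198, nat_lit 5, nat_lit 3, nat_lit 5, nat_lit 2, nat_lit 5, nat_lit 2, nat_lit 4])))))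
noncomputable def W (i : ℕ) : List ℕ := TL.get W_t i
def WA_t : TL := (TL.leaf [nat_lit 0])
noncomputable def WA (i : ℕ) : List ℕ := TL.get WA_t i
noncomputable def row : ℕ → ℕ := hRow (nat_lit 10) (nat_lit 8) (nat_lit 7) (nat_lit 16) (nat_lit 64) (nat_lit 1024) (nat_lit 256) (nat_lit 256) (nat_lit 0) E X Pa inv (wfun (nat_lit 30) W_t)
noncomputable def aux : ℕ → ℕ := hAux (nat_lit 11) (nat_lit 8) (nat_lit 16) (nat_lit 1024) (nat_lit 256) (nat_lit 2) (nat_lit 2) (nat_lit 256) (nat_lit 0) E X J Pa inv WA_t.get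
theorem r0 : Nat.beq (rng row (nat_lit 0) (nat_lit 11)) (nat_lit 0) = true := by decide +kernel
theorem rows : ∀ i < 11, row i = 0 := by
  have h := zero_lt_zero row
  have h := zero_lt_add (a := (nat_lit 0)) (n := (nat_lit 11)) (b := (nat_lit 11)) h r0 rfl
  exact h
theorem auxs : ∀ i < 0, aux i = 0 := by
  have h := zero_lt_zero aux
  exact h
theorem closes.{u} : ClosesT.{u} inv rels 8 7 11 T :=
  hc_closes (N1 := (nat_lit 10)) rfl T_eq (by decide +kernel) rows auxs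
theorem T_inv : ∀ c < 11, ∀ j < 8, T j c < 11 ∧ T (inv j) (T j c) = c := 
  hc_inv (inv := inv) (N1 := (nat_lit 10)) rfl T_eq rows
end L4

def rels : List (List ℕ) := [[nat_lit 0, nat_lit 1, nat_lit 1], [nat_lit 0, nat_lit 3, nat_lit 3], [nat_lit 3, nat_lit 1, nat_lit 3, nat_lit 2], [nat_lit 0, nat_lit 5, nat_lit 0, nat_lit 5, nat_lit 0, nat_lit 5], [nat_lit 5, nat_lit 1, nat_lit 5, nat_lit 4, nat_lit 5, nat_lit 3, nat_lit 1], [nat_lit 5, nat_lit 6, nat_lit 5, nat_lit 6], [nat_lit 3, nat_lit 6, nat_lit 5, nat_lit 3, nat_lit 6, nat_lit 5, nat_lit 3, nat_lit 6, nat_lit 5], [nat_lit 6, nat_lit 1, nat_lit 6, nat_lit 4, nat_lit 2, nat_lit 6, nat_lit 3], [nat_lit 0, nat_lit 7, nat_lit 0, nat_lit 7, nat_lit 0, nat_lit 7], [nat_lit 1, nat_lit 7, nat_lit 6, nat_lit 1, nat_lit 7, nat_lit 6], [nat_lit 7, nat_lit 0, nat_lit 5, nat_lit 1, nat_lit 7, nat_lit 3, nat_lit 1, nat_lit 5, nat_lit 2], [nat_lit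 7, nat_lit 1, nat_lit 3, nat_lit 5, nat_lit 7, nat_lit 3, nat_lit 2, nat_lit 5]]
def inv (i : ℕ) : ℕ := Nat.land (Nat.shiftRight (nat_lit 0xfab850) (Nat.mul (nat_lit 3) i)) (nat_lit 7)
theorem ub5 {Γ : Type} [Group Γ] {g : ℕ → Γ} (h1 : InvOK g inv 8) (h2 : ∀ w ∈ rels, ev g w = 1) : CardLE (gen g 5) 8 :=
  tw h1 h2 L1.closes (by decide +kernel) (cardLE_gen_zero g)
theorem ub6 {Γ : Type} [Group Γ] {g : ℕ → Γ} (h1 : InvOK g inv 8) (h2 : ∀ w ∈ rels, ev g w = 1) : CardLE (gen g 6) 72 :=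
  tw h1 h2 L2.closes (by decide +kernel) (ub5 h1 h2)
theorem ub7 {Γ : Type} [Group Γ] {g : ℕ → Γ} (h1 : InvOK g inv 8) (h2 : ∀ w ∈ rels, ev g w = 1) : CardLE (gen g 7) 720 :=
  tw h1 h2 L3.closes (by decide +kernel) (ub6 h1 h2)
theorem ub8 {Γ : Type} [Group Γ] {g : ℕ → Γ} (h1 : InvOK g inv 8) (h2 : ∀ w ∈ rels, ev g w = 1) : CardLE (gen g 8) 7920 :=
  tw h1 h2 L4.closes (by decide +kernel) (ub7 h1 h2)

end Cfsg.Agent.Ct.N11
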